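import Cfsg.Agent.H914.Gs.SpBase
import Cfsg.Agent.H74.SpN
import Cfsg.Agent.H847.IF.Lift
import Cfsg.Agent.ClassicalGeometry.SympAutCentral
import Cfsg.Agent.ClassicalGeometry.SympAutExists

/-!
# S5719, `PSp_2m(q)`, `q` odd, `m ≥ 3`: the stabiliser contains no fundamental involution (helper511)

* `zz x y` : the involution with `-1` on the hyperbolic plane `⟨x, y⟩`, `f x y = 1`, and `1` on its perpendicular space;
* `step` : if `zz x y ∈ Â` then `Â` contains all transvections with centre perpendicular to `x, y`;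
* `fund` : `zz x y ∈ Â` is impossible;
* `fund_eig` : the same for an element given by its eigenspaces.
-/

set_option autoImplicit false
set_option linter.unusedSectionVars false

namespace Cfsg.Agent.H511.IF

open Cfsg Subgroup
open Cfsg.Agent.ClassicalGeometry.SympBasic Cfsg.Agent.ClassicalGeometry.SympSiegel
open Cfsg.Agent.H74.Psp Cfsg.Agent.H914.Gs
open Cfsg.Agent.H209.Fxy (IF)

variable {F : Type*} [Field F] {m : ℕ}

local notation "V" => (Fin m ⊕ Fin m → F)
local notation "G" => Matrix.symplecticGroup (Fin m) F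
local notation "f" => sympForm m F

/-- `-1` on `⟨x, y⟩`, `1` on the perpendicular space (for `f x y = 1`) -/
def zz (x y : V) : G := (transv x 1 * transv y 1 * transv x 1) * (transv x 1 * transv y 1 * transv x 1)

theorem zz_smul {x y : V} (hxy : f x y = 1) (v : V) :
    zz x y • v = v - (2 : F) • (f v y • x - f v x • y) := by
  have hyx : f y x = -1 := by rw [sympForm_swap, hxy]
  simp only [zz, mul_smul, transv_smul, sympForm_add_left, sympForm_smul_left, sympForm_self, hxy, hyx]
  module

theorem conj_zz (g : G) (x y : V) : g * zz x y * g⁻¹ = zz (g • x) (g • y) := by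
  have h1 : ∀ a b : G, g * (a * b) * g⁻¹ = (g * a * g⁻¹) * (g * b * g⁻¹) := fun a b => by group
  simp only [zz, h1, conj_transv]

theorem zz_add {x y : V} (hxy : f x y = 1) (c : F) : zz x (y + c • x) = zz x y := by
  apply ext_smul
  intro v
  rw [zz_smul hxy, zz_smul (by rw [sympForm_add_right, sympForm_smul_right, sympForm_self, hxy, mul_zero, add_zero]),
    sympForm_add_right, sympForm_smul_right]
  module

theorem zz_sq {x y : V} (hxy : f x y = 1) : zz x y * zz x y = 1 := by
  have hyx : f y x = -1 := by rw [sympForm_swap, hxy]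
  apply ext_smul
  intro v
  rw [mul_smul, zz_smul hxy, zz_smul hxy, one_smul]
  simp only [sympForm_sub_left, sympForm_smul_left, sympForm_self, hxy, hyx]
  module

/-- the projection to the plane -/
def pl (x y : V) : V →ₗ[F] V where
  toFun v := f v y • x - f v x • y
  map_add' u v := by simp only [sympForm_add_left]; module
  map_smul' c v := by simp only [sympForm_smul_left, RingHom.id_apply]; module

theorem pl_apply (x y v : V) : pl x y v = f v y • x - f v x • y := rfl

/-- the perpendicular space of the plane -/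
def UU (x y : V) : Submodule F (Fin m ⊕ Fin m → F) where
  carrier := {v | f v x = 0 ∧ f v y = 0}
  zero_mem' := ⟨sympForm_zero_left _, sympForm_zero_left _⟩
  add_mem' {u v} hu hv := ⟨by rw [sympForm_add_left, hu.1, hv.1, add_zero], by rw [sympForm_add_left, hu.2, hv.2, add_zero]⟩
  smul_mem' c v hv := ⟨by rw [sympForm_smul_left, hv.1, mul_zero], by rw [sympForm_smul_left, hv.2, mul_zero]⟩

theorem mem_UU {x y v : V} : v ∈ UU x y ↔ f v x = 0 ∧ f v y = 0 := Iff.rfl

section plane

variable {x y : Fin m ⊕ Fin m → F} (hxy : sympForm m F x y = 1)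
include hxy

theorem sub_pl_mem (v : V) : v - pl x y v ∈ UU x y := by
  have hyx : f y x = -1 := by rw [sympForm_swap, hxy]
  rw [mem_UU, pl_apply]
  simp only [sympForm_sub_left, sympForm_smul_left, sympForm_self, hxy, hyx]
  constructor <;> ring

/-- the projection to `U` -/
def prU : V →ₗ[F] UU x y :=
  LinearMap.codRestrict (UU x y) (LinearMap.id - pl x y) (fun v => sub_pl_mem hxy v)

theorem coe_prU (v : V) : (prU hxy v : V) = v - pl x y v := rfl

omit hxy in
theorem pl_of_mem {v : V} (hv : v ∈ UU x y) : pl x y v = 0 := by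
  rw [pl_apply, hv.1, hv.2]; simp

theorem prU_of_mem {v : V} (hv : v ∈ UU x y) : prU hxy v = ⟨v, hv⟩ := by
  apply Subtype.ext
  rw [coe_prU, pl_of_mem hv, sub_zero]

omit hxy in
theorem form_pl_left {u : V} (hu : u ∈ UU x y) (v : V) : f (pl x y v) u = 0 := by
  rw [pl_apply, sympForm_sub_left, sympForm_smul_left, sympForm_smul_left, sympForm_swap x u, sympForm_swap y u, hu.1,
    hu.2]
  simp

omit hxy in
theorem form_pl_right {u : V} (hu : u ∈ UU x y) (v : V) : f u (pl x y v) = 0 := by
  rw [sympForm_swap, form_pl_left hu, neg_zero]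

/-- the form on `U` -/
def BU (x y : V) : UU x y →ₗ[F] UU x y →ₗ[F] F := (sympBilin m F).compl₁₂ (UU x y).subtype (UU x y).subtype

omit hxy in
theorem BU_apply (u v : UU x y) : BU x y u v = f (u : V) (v : V) := rfl

theorem symp_BU : Symp (BU x y) := by
  refine ⟨fun u => sympForm_self _, fun u hu => ?_⟩
  apply Subtype.ext
  apply eq_zero_of_forall_sympForm_right
  intro v
  have h1 : v = (prU hxy v : V) + pl x y v := by rw [coe_prU]; abel
  have h2 := hu (prU hxy v)
  rw [BU_apply] at h2
  rw [h1, sympForm_add_right, h2, form_pl_right u.2, add_zero]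

/-- the extension of an isometry of `U` -/
def extL (g : Sp (BU x y)) : V →ₗ[F] V :=
  (UU x y).subtype ∘ₗ ((g : UU x y ≃ₗ[F] UU x y) : UU x y →ₗ[F] UU x y) ∘ₗ prU hxy + pl x y

theorem extL_apply (g : Sp (BU x y)) (v : V) : extL hxy g v = ((g • prU hxy v : UU x y) : V) + pl x y v := rfl

theorem form_extL (g : Sp (BU x y)) (u v : V) : f (extL hxy g u) (extL hxy g v) = f u v := by
  rw [extL_apply, extL_apply, sympForm_add_left, sympForm_add_right, sympForm_add_right, form_pl_right (Subtype.prop _),
    form_pl_left (Subtype.prop _), ← BU_apply, B_smul_smul, BU_apply]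
  have h1 : u = (prU hxy u : V) + pl x y u := by rw [coe_prU]; abel
  have h2 : v = (prU hxy v : V) + pl x y v := by rw [coe_prU]; abel
  conv_rhs => rw [h1, h2, sympForm_add_left, sympForm_add_right, sympForm_add_right, form_pl_right (Subtype.prop _),
    form_pl_left (Subtype.prop _)]

/-- `Sp(U) → Sp(V)` -/
noncomputable def th : Sp (BU x y) →* G where
  toFun g := ofIso (extL hxy g) (form_extL hxy g)
  map_one' := by
    apply ext_smul
    intro v
    rw [ofIso_smul, extL_apply, one_smul, one_smul, coe_prU]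
    abel
  map_mul' g h := by
    apply ext_smul
    intro v
    rw [ofIso_smul, mul_smul, ofIso_smul, ofIso_smul, extL_apply, extL_apply, extL_apply, mul_smul]
    have h1 : prU hxy (((h • prU hxy v : UU x y) : V) + pl x y v) = h • prU hxy v := by
      rw [map_add, prU_of_mem hxy (Subtype.prop _)]
      have h2 : prU hxy (pl x y v) = 0 := by
        have hyx : f y x = -1 := by rw [sympForm_swap, hxy]
        apply Subtype.ext
        rw [coe_prU, pl_apply, pl_apply]
        simp only [sympForm_sub_left, sympForm_smul_left, sympForm_self, hxy, hyx, ZeroMemClass.coe_zero]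
        module
      rw [h2, add_zero]
    rw [h1]
    congr 1
    have hyx : f y x = -1 := by rw [sympForm_swap, hxy]
    rw [map_add, pl_of_mem (Subtype.prop _), zero_add, pl_apply, pl_apply]
    simp only [sympForm_sub_left, sympForm_smul_left, sympForm_self, hxy, hyx]
    module

theorem th_smul (g : Sp (BU x y)) (v : V) : th hxy g • v = ((g • prU hxy v : UU x y) : V) + pl x y v := by
  show ofIso (extL hxy g) (form_extL hxy g) • v = _
  rw [ofIso_smul, extL_apply]

theorem th_t (u : UU x y) (c : F) : th hxy (t (BU x y) u c) = transv (u : V) c := by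
  apply ext_smul
  intro v
  rw [th_smul, t_smul (symp_BU hxy), transv_smul, BU_apply]
  have h1 : f (prU hxy v : V) (u : V) = f v (u : V) := by
    rw [coe_prU, sympForm_sub_left, form_pl_left u.2, sub_zero]
  rw [h1]
  show (prU hxy v : V) + (c * f v (u : V)) • (u : V) + pl x y v = _
  rw [coe_prU]
  abel

theorem th_comm (g : Sp (BU x y)) : th hxy g * zz x y = zz x y * th hxy g := by
  have hyx : f y x = -1 := by rw [sympForm_swap, hxy]
  have hx : th hxy g • x = x := by
    rw [th_smul]
    have h1 : prU hxy x = 0 := by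
      apply Subtype.ext
      rw [coe_prU, pl_apply, hxy, sympForm_self]
      simp
    rw [h1, smul_zero, pl_apply, hxy, sympForm_self]
    simp
  have hy : th hxy g • y = y := by
    rw [th_smul]
    have h1 : prU hxy y = 0 := by
      apply Subtype.ext
      rw [coe_prU, pl_apply, hyx, sympForm_self]
      simp
    rw [h1, smul_zero, pl_apply, hyx, sympForm_self]
    simp
  have h1 := conj_zz (th hxy g) x y
  rw [hx, hy] at h1
  exact (mul_inv_eq_iff_eq_mul).1 h1

/-- `V = U + ⟨x, y⟩` -/
theorem card_UU [Finite F] : Nat.card V = Nat.card (UU x y) * Nat.card F ^ 2 := by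
  have hyx : f y x = -1 := by rw [sympForm_swap, hxy]
  have e : V ≃ UU x y × F × F :=
    { toFun := fun v => (prU hxy v, f v x, f v y)
      invFun := fun p => (p.1 : V) + (p.2.2 • x - p.2.1 • y)
      left_inv := fun v => by
        show (prU hxy v : V) + (f v y • x - f v x • y) = v
        rw [coe_prU, pl_apply]; abel
      right_inv := fun p => by
        obtain ⟨u, a, b⟩ := p
        have h1 : f ((u : V) + (b • x - a • y)) x = a := by
          simp only [sympForm_add_left, sympForm_sub_left, sympForm_smul_left, sympForm_self, u.2.1, hyx]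
          ring
        have h2 : f ((u : V) + (b • x - a • y)) y = b := by
          simp only [sympForm_add_left, sympForm_sub_left, sympForm_smul_left, sympForm_self, u.2.2, hxy]
          ring
        refine Prod.ext ?_ (Prod.ext h1 h2)
        apply Subtype.ext
        show (prU hxy ((u : V) + (b • x - a • y)) : V) = u
        rw [coe_prU, pl_apply, h1, h2]
        abel }
  rw [Nat.card_congr e, Nat.card_prod, Nat.card_prod, pow_two]

end plane

/-! ### more hyperbolic planes -/

/-- a hyperbolic plane in `U` perpendicular to `b ∈ U` -/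
theorem exists_plane (hm : 3 ≤ m) {x y b : V} (hxy : f x y = 1) (hb : b ∈ UU x y) :
    ∃ x' ∈ UU x y, ∃ y' ∈ UU x y, f x' y' = 1 ∧ f x' b = 0 ∧ f y' b = 0 := by
  have hyx : f y x = -1 := by rw [sympForm_swap, hxy]
  let i0 : Fin m := ⟨0, by omega⟩
  let i1 : Fin m := ⟨1, by omega⟩
  let i2 : Fin m := ⟨2, by omega⟩
  have h01 : i0 ≠ i1 := fun h => by simpa [i0, i1] using congrArg Fin.val h
  have h02 : i0 ≠ i2 := fun h => by simpa [i0, i2] using congrArg Fin.val h
  have h12 : i1 ≠ i2 := fun h => by simpa [i1, i2] using congrArg Fin.val h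
  have fee : ∀ i j : Fin m, f (e i) (e j) = 0 := fun i j => by
    rw [form_e_left]; simp [e]
  have fee' : ∀ i j : Fin m, f (e i) (e' j) = if i = j then 1 else 0 := fun i j => by
    rw [form_e_left]
    by_cases h : i = j
    · subst h; simp [e']
    · rw [if_neg h]
      simp [e', h]
  have fe'e : ∀ i j : Fin m, f (e' i) (e j) = if i = j then -1 else 0 := fun i j => by
    rw [sympForm_swap, fee']
    by_cases h : i = j
    · subst h; simp
    · rw [if_neg h, if_neg (fun h' => h h'.symm), neg_zero]
  have fe'e' : ∀ i j : Fin m, f (e' i) (e' j) = 0 := fun i j => by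
    rw [form_e'_left]; simp [e']
  -- it is enough to move `x, y, b` to `e 0, e' 0, c • e 1`
  have key : ∀ (g : G) (c : F), g • x = e i0 → g • y = e' i0 → g • b = c • e i1 →
      ∃ x' ∈ UU x y, ∃ y' ∈ UU x y, f x' y' = 1 ∧ f x' b = 0 ∧ f y' b = 0 := by
    intro g c h1 h2 h3
    have h4 : ∀ u v : V, f (g⁻¹ • u) v = f u (g • v) := fun u v => by
      rw [form_smul_left, inv_inv]
    refine ⟨g⁻¹ • e i2, ⟨?_, ?_⟩, g⁻¹ • e' i2, ⟨?_, ?_⟩, ?_, ?_, ?_⟩
    · rw [h4, h1, fee]
    · rw [h4, h2, fee', if_neg (Ne.symm h02)]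
    · rw [h4, h1, fe'e, if_neg (Ne.symm h02)]
    · rw [h4, h2, fe'e']
    · rw [form_smul, fee', if_pos rfl]
    · rw [h4, h3, sympForm_smul_right, fee, mul_zero]
    · rw [h4, h3, sympForm_smul_right, fe'e, if_neg (Ne.symm h12), mul_zero]
  by_cases hb0 : b = 0
  · obtain ⟨g, h1, h2⟩ := witt_pair (linInd_of_form (F := F) (m := m) (u := x) (v := y) (by rw [hxy]; exact one_ne_zero))
      (linInd_of_form (F := F) (m := m) (u := e i0) (v := e' i0) (by rw [fee', if_pos rfl]; exact one_ne_zero))
      (by rw [hxy, fee', if_pos rfl])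
    refine key g 0 h1 h2 ?_
    rw [hb0, smul_zero', zero_smul]
  · have hlin : LinearIndependent F ![x, y, b] := by
      rw [Fintype.linearIndependent_iff]
      intro c hc
      rw [Fin.sum_univ_three] at hc
      simp only [Matrix.cons_val_zero, Matrix.cons_val_one, Matrix.cons_val_two, Matrix.head_cons, Matrix.tail_cons] at hc
      have hc' : c 0 • x + c 1 • y + c 2 • b = 0 := hc
      have h0 : c 0 = 0 := by
        have h1 := congrArg (fun v => f v y) hc'
        simp only [sympForm_add_left, sympForm_smul_left, hxy, sympForm_self, hb.2, sympForm_zero_left] at h1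
        linear_combination h1
      have h1 : c 1 = 0 := by
        have h1 := congrArg (fun v => f v x) hc'
        simp only [sympForm_add_left, sympForm_smul_left, hyx, sympForm_self, hb.1, sympForm_zero_left] at h1
        linear_combination -h1
      have h2 : c 2 = 0 := by
        rw [h0, h1, zero_smul, zero_smul, zero_add, zero_add] at hc'
        exact (smul_eq_zero.1 hc').resolve_right hb0
      intro i
      fin_cases i
      · exact h0
      · exact h1
      · exact h2
    have hlin' : LinearIndependent F ![(e i0 : V), e' i0, e i1] := by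
      rw [Fintype.linearIndependent_iff]
      intro c hc
      rw [Fin.sum_univ_three] at hc
      have hc' : c 0 • (e i0 : V) + c 1 • e' i0 + c 2 • e i1 = 0 := hc
      have h0 : c 0 = 0 := by
        have h1 := congrArg (fun v => f v (e' i0)) hc'
        simp only [sympForm_add_left, sympForm_smul_left, fee', fe'e', sympForm_zero_left, if_true,
          if_neg (Ne.symm h01)] at h1
        linear_combination h1
      have h1 : c 1 = 0 := by
        have h1 := congrArg (fun v => f v (e i0)) hc'
        simp only [sympForm_add_left, sympForm_smul_left, fee, fe'e, sympForm_zero_left, if_true] at h1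
        linear_combination -h1
      have h2 : c 2 = 0 := by
        have h1 := congrArg (fun v => f v (e' i1)) hc'
        simp only [sympForm_add_left, sympForm_smul_left, fee', fe'e', sympForm_zero_left, if_true,
          if_neg h01] at h1
        linear_combination h1
      intro i
      fin_cases i
      · exact h0
      · exact h1
      · exact h2
    have hbx : f x b = 0 := by rw [sympForm_swap, hb.1, neg_zero]
    have hby : f y b = 0 := by rw [sympForm_swap, hb.2, neg_zero]
    obtain ⟨g, hg⟩ := witt ![x, y, b] ![(e i0 : V), e' i0, e i1] hlin hlin' (by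
      have q1 := fee i0 i1
      have q2 := fe'e i0 i1
      have q3 := fee i1 i0
      have q4 := fee' i1 i0
      have q5 := fee' i0 i0
      have q6 := fe'e i0 i0
      rw [if_neg h01] at q2
      rw [if_neg (Ne.symm h01)] at q4
      rw [if_pos rfl] at q5 q6
      intro i j
      fin_cases i <;> fin_cases j
      · exact (sympForm_self _).trans (sympForm_self _).symm
      · exact hxy.trans q5.symm
      · exact hbx.trans q1.symm
      · exact hyx.trans q6.symm
      · exact (sympForm_self _).trans (sympForm_self _).symm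
      · exact hby.trans q2.symm
      · exact hb.1.trans q3.symm
      · exact hb.2.trans q4.symm
      · exact (sympForm_self _).trans (sympForm_self _).symm)
    refine key g 1 (hg 0) (hg 1) ?_
    rw [one_smul]
    exact hg 2

/-! ### the class of `zz x y` -/

theorem cent_index_le [Finite F] {x y : V} (hxy : f x y = 1) :
    (centralizer ({zz x y} : Set G)).index * Nat.card F ^ 2 ≤ Nat.card V ^ 2 := by
  classical
  set C := centralizer ({zz x y} : Set G) with hC
  have hwt : ∀ v : V, ∃ w : V, v ≠ 0 → f v w = 1 := fun v => by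
    by_cases hv : v = 0
    · exact ⟨0, fun h => absurd hv h⟩
    · obtain ⟨w, hw⟩ := exists_form_eq_one hv
      exact ⟨w, fun _ => hw⟩
  choose wt hwt using hwt
  have hx0 : x ≠ 0 := by
    rintro rfl
    rw [sympForm_zero_left] at hxy
    exact zero_ne_one hxy
  let Φ : (G ⧸ C) × F × F → V × V := fun p =>
    (p.1.out • x, p.1.out • y + p.2.1 • p.1.out • x + p.2.2 • wt (p.1.out • x))
  have hinj : Function.Injective Φ := by
    rintro ⟨a, c, d⟩ ⟨b, c', d'⟩ hab
    have h1 : a.out • x = b.out • x := congrArg Prod.fst hab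
    have h2 : a.out • y + c • a.out • x + d • wt (a.out • x) = b.out • y + c' • b.out • x + d' • wt (b.out • x) :=
      congrArg Prod.snd hab
    have hne : a.out • x ≠ 0 := smul_ne_zero' _ hx0
    have h3 := congrArg (fun v => f (a.out • x) v) h2
    rw [← h1] at h3
    simp only [sympForm_add_right, sympForm_smul_right, sympForm_self, hwt _ hne] at h3
    have h4 : f (a.out • x) (b.out • y) = 1 := by rw [h1, form_smul, hxy]
    rw [h4, form_smul, hxy] at h3
    have hd : d = d' := by linear_combination h3
    rw [← h1, hd] at h2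
    have h5 : a.out • y + c • a.out • x = b.out • y + c' • a.out • x := add_right_cancel h2
    have h6 : zz (a.out • x) (a.out • y) = zz (b.out • x) (b.out • y) := by
      rw [← zz_add (by rw [form_smul, hxy]) c, h5, h1, zz_add (by rw [form_smul, hxy])]
    rw [← conj_zz, ← conj_zz] at h6
    have h7 : a.out⁻¹ * b.out ∈ C := by
      refine mem_centralizer_iff.2 ?_
      rintro _ rfl
      have h8 : zz x y = a.out⁻¹ * (b.out * zz x y * b.out⁻¹) * a.out := by rw [← h6]; group
      conv_lhs => rw [h8]
      group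
    have h8 : a = b := by
      rw [← QuotientGroup.out_eq' a, ← QuotientGroup.out_eq' b]
      exact QuotientGroup.eq.2 h7
    subst h8
    have h9 : (c - c') • a.out • x = 0 := by
      rw [sub_smul, sub_eq_zero]
      exact add_left_cancel h5
    have h10 := (smul_eq_zero.1 h9).resolve_right hne
    rw [sub_eq_zero.1 h10, hd]
  have h := Nat.card_le_card_of_injective Φ hinj
  rw [Nat.card_prod, Nat.card_prod, Nat.card_prod] at h
  rw [pow_two, pow_two]
  exact h

/-! ### the small case -/

section small

variable {x y : Fin m ⊕ Fin m → F} (hxy : sympForm m F x y = 1)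
include hxy

/-- `|F|` prime, index less than `|F|²`: all transvections of `U` -/
theorem Tv_of_small (hm : 3 ≤ m) (h2 : (2 : F) ≠ 0) (hn : ∀ a b : F, a ≠ 0 → ∃ k : ℕ, b = k * a) [Finite F]
    {K : Subgroup (Sp (BU x y))}
    (hK : K.index < Nat.card F ^ 2) (u : UU x y) : Tv K u := by
  classical
  have hB := symp_BU hxy
  by_cases hu : u = 0
  · subst hu
    intro a
    have h1 : t (BU x y) 0 a = 1 := by
      apply Sp.ext'
      intro v
      rw [t_smul hB]
      simp
    rw [h1]
    exact K.one_mem
  by_contra hcon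
  -- no nontrivial transvection with centre `u` in `K`
  have hno : ∀ a : F, t (BU x y) u a ∈ K → a = 0 := by
    intro a ha
    by_contra ha0
    apply hcon
    intro b
    obtain ⟨k, rfl⟩ := hn a b ha0
    have h1 : t (BU x y) u (k * a) = (t (BU x y) u a) ^ k := by
      induction k with
      | zero =>
        rw [pow_zero, Nat.cast_zero, zero_mul]
        apply Sp.ext'
        intro v
        rw [t_smul hB]
        simp
      | succ k ih =>
        rw [pow_succ, ← ih, ← E_zero, ← E_zero, ← E_zero, E_mul hB (map_zero _) (map_zero _), add_zero]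
        congr 1
        push_cast
        rw [map_zero]
        ring
    rw [h1]
    exact K.pow_mem ha k
  obtain ⟨w, hw, w', hw', hww, hwu, hwu'⟩ := exists_plane hm hxy u.2
  -- an element of `K` over every vector perpendicular to `u`
  have hex : ∀ w : UU x y, BU x y u w = 0 → ∃ c, E (BU x y) u w c ∈ K := by
    intro w hw
    have hcard : Nat.card (Sp (BU x y) ⧸ K) < Nat.card (F × F) := by
      rw [Nat.card_prod, ← pow_two]
      exact hK
    obtain ⟨⟨a, c⟩, ⟨a', c'⟩, hne, hac⟩ : ∃ p p' : F × F, p ≠ p' ∧
        ((E (BU x y) u (p.1 • w) p.2 : Sp (BU x y)) : Sp (BU x y) ⧸ K) = (E (BU x y) u (p'.1 • w) p'.2 : Sp (BU x y)) := by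
      by_contra hcon2
      push Not at hcon2
      have hinj : Function.Injective (fun p : F × F => ((E (BU x y) u (p.1 • w) p.2 : Sp (BU x y)) : Sp (BU x y) ⧸ K)) := by
        intro p p' h
        by_contra hne
        exact hcon2 p p' hne h
      exact absurd (Nat.card_le_card_of_injective _ hinj) (not_le.2 hcard)
    have hperp : ∀ a : F, BU x y u (a • w) = 0 := fun a => by rw [map_smul, hw, smul_zero]
    have h1 := QuotientGroup.eq.1 hac
    have h3 : (E (BU x y) u (a • w) c)⁻¹ = E (BU x y) u (-(a • w)) (-c) := by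
      rw [inv_eq_iff_mul_eq_one, E_mul hB (hperp a) (by rw [map_neg, hperp, neg_zero])]
      apply Sp.ext'
      intro v
      rw [add_neg_cancel, E_smul hB (map_zero _), map_neg, LinearMap.neg_apply, hB.alt]
      simp
    have h4 : E (BU x y) u ((a' - a) • w) (c' - c) ∈ K := by
      have h5 : (E (BU x y) u (a • w) c)⁻¹ * E (BU x y) u (a' • w) c' = E (BU x y) u ((a' - a) • w) (c' - c) := by
        rw [h3, E_mul hB (by rw [map_neg, hperp, neg_zero]) (hperp a')]
        congr 1
        · module
        · rw [map_neg, map_smul, map_smul, LinearMap.smul_apply, hB.alt]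
          simp
          ring
      rw [← h5]
      exact h1
    by_cases hδ : a' - a = 0
    · exfalso
      rw [hδ, zero_smul] at h4
      have h5 := hno _ h4
      apply hne
      rw [sub_eq_zero.1 hδ, sub_eq_zero.1 h5]
    · obtain ⟨k, hk⟩ := hn _ 1 hδ
      have h5 : ∀ k : ℕ, ∃ c, E (BU x y) u ((k * (a' - a)) • w) c ∈ K := by
        intro k
        induction k with
        | zero =>
          refine ⟨0, ?_⟩
          have h6 : E (BU x y) u (((0 : ℕ) * (a' - a)) • w) 0 = 1 := by
            apply Sp.ext'
            intro v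
            rw [Nat.cast_zero, zero_mul, zero_smul, E_smul hB (map_zero _)]
            simp
          rw [h6]
          exact K.one_mem
        | succ k ih =>
          obtain ⟨c0, hc0⟩ := ih
          have h6 := K.mul_mem hc0 h4
          rw [E_mul hB (hperp _) (hperp _), ← add_smul] at h6
          have h7 : (k : F) * (a' - a) + (a' - a) = ((k + 1 : ℕ) : F) * (a' - a) := by push_cast; ring
          rw [h7] at h6
          exact ⟨_, h6⟩
      obtain ⟨c0, hc0⟩ := h5 k
      rw [← hk, one_smul] at hc0
      exact ⟨c0, hc0⟩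
  obtain ⟨c, hc⟩ := hex ⟨w, hw⟩ (by rw [BU_apply]; rw [sympForm_swap, hwu, neg_zero])
  obtain ⟨c', hc'⟩ := hex ⟨w', hw'⟩ (by rw [BU_apply]; rw [sympForm_swap, hwu', neg_zero])
  have p1 : BU x y u ⟨w, hw⟩ = 0 := by rw [BU_apply]; rw [sympForm_swap, hwu, neg_zero]
  have p2 : BU x y u ⟨w', hw'⟩ = 0 := by rw [BU_apply]; rw [sympForm_swap, hwu', neg_zero]
  have h1 := K.mul_mem hc hc'
  have h3 := K.mul_mem hc' hc
  rw [E_mul hB p1 p2] at h1
  rw [E_mul hB p2 p1] at h3
  have h4 := K.mul_mem h1 (K.inv_mem h3)
  have p3 : BU x y u (⟨w', hw'⟩ + ⟨w, hw⟩) = 0 := by rw [map_add, p1, p2, add_zero]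
  have h5 : (E (BU x y) u (⟨w', hw'⟩ + ⟨w, hw⟩) (c' + c + BU x y ⟨w, hw⟩ ⟨w', hw'⟩))⁻¹ =
      E (BU x y) u (-(⟨w', hw'⟩ + ⟨w, hw⟩)) (-(c' + c + BU x y ⟨w, hw⟩ ⟨w', hw'⟩)) := by
    rw [inv_eq_iff_mul_eq_one, E_mul hB p3 (by rw [map_neg, p3, neg_zero])]
    apply Sp.ext'
    intro v
    rw [add_neg_cancel, E_smul hB (map_zero _), map_neg, LinearMap.neg_apply, hB.alt]
    simp
  rw [h5, add_comm (⟨w, hw⟩ : UU x y) ⟨w', hw'⟩, E_mul hB p3 (by rw [map_neg, p3, neg_zero]), add_neg_cancel, map_neg,
    LinearMap.neg_apply, hB.alt] at h4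
  have h6 := hno _ h4
  have h7 : BU x y ⟨w, hw⟩ ⟨w', hw'⟩ = 1 := hww
  have h8 : BU x y ⟨w', hw'⟩ ⟨w, hw⟩ = -1 := by rw [skew hB, h7]
  rw [h7, h8] at h6
  apply h2
  linear_combination -h6

end small

/-! ### the theorem -/

section main

variable [Fintype F] {A : Subgroup (PSp m F)} {Γ : Subgroup (MulAut (PSp m F))}

/-- the projection -/
abbrev pi (m : ℕ) (F : Type*) [Field F] : Matrix.symplecticGroup (Fin m) F →* PSp m F :=
  QuotientGroup.mk' (center (Matrix.symplecticGroup (Fin m) F))

theorem pi_surj : Function.Surjective (pi m F) := QuotientGroup.mk'_surjective _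

theorem two_ne (ho : Odd (Fintype.card F)) : (2 : F) ≠ 0 := by
  intro h2
  have : CharP F 2 := CharTwo.of_one_ne_zero_of_two_eq_zero one_ne_zero h2
  have h3 := FiniteField.even_card_of_char_two (F := F) (ringChar.eq F 2)
  rw [Nat.odd_iff] at ho
  omega

/-- an element of the kernel is a scalar -/
theorem scalar_of_pi {g : G} (h : pi m F g = 1) : ∃ a : F, ∀ v : V, g • v = a • v := by
  have h1 : g ∈ center G := by
    have := (QuotientGroup.eq_one_iff (N := center G) g).1 h
    exact this
  obtain ⟨b, -, hb⟩ := Cfsg.Agent.ClassicalGeometry.SympAutCentral.center_scalar h1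
  exact ⟨b, hb⟩

theorem exists_U (hm : 3 ≤ m) {x y : V} (hxy : f x y = 1) : ∃ u : V, u ≠ 0 ∧ f u x = 0 ∧ f u y = 0 := by
  obtain ⟨x', hx', y', -, h1, -, -⟩ := exists_plane (F := F) hm (b := 0) hxy ⟨sympForm_zero_left _, sympForm_zero_left _⟩
  refine ⟨x', ?_, hx'⟩
  rintro rfl
  rw [sympForm_zero_left] at h1
  exact zero_ne_one h1

theorem pi_zz_ne (hm : 3 ≤ m) (h2 : (2 : F) ≠ 0) {x y : V} (hxy : f x y = 1) : pi m F (zz x y) ≠ 1 := by
  intro h
  obtain ⟨a, ha⟩ := scalar_of_pi h
  obtain ⟨u, hu, hux, huy⟩ := exists_U (F := F) hm hxy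
  have h1 := ha u
  have h3 := ha x
  rw [zz_smul hxy, hux, huy] at h1
  rw [zz_smul hxy, hxy, sympForm_self] at h3
  have hx0 : x ≠ 0 := by
    rintro rfl
    rw [sympForm_zero_left] at hxy
    exact zero_ne_one hxy
  have ha1 : (1 - a) • u = 0 := by
    rw [sub_smul, one_smul, ← h1]
    module
  have ha2 : (1 + a) • x = 0 := by
    rw [add_smul, one_smul, ← h3]
    module
  have h4 := (smul_eq_zero.1 ha1).resolve_right hu
  have h5 := (smul_eq_zero.1 ha2).resolve_right hx0
  apply h2
  linear_combination h4 + h5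

theorem noncomm (hm : 3 ≤ m) : ∃ a b : PSp m F, a * b ≠ b * a := by
  obtain ⟨x, y, hxy⟩ := Cfsg.Agent.ClassicalGeometry.SympAutExists.exists_hyperbolic (m := m) (F := F) (by omega)
  have hyx : f y x = -1 := by rw [sympForm_swap, hxy]
  refine ⟨pi m F (transv x 1), pi m F (transv y 1), fun h => ?_⟩
  have h1 : pi m F ((transv y 1 * transv x 1)⁻¹ * (transv x 1 * transv y 1)) = 1 := by
    rw [map_mul, map_inv, map_mul, map_mul, h, inv_mul_cancel]
  obtain ⟨a, ha⟩ := scalar_of_pi h1
  have h2 : ∀ v : V, (transv x (1 : F)) • (transv y (1 : F)) • v = a • (transv y (1 : F)) • (transv x (1 : F)) • v := by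
    intro v
    have := congrArg (fun w => (transv y (1 : F) * transv x (1 : F)) • w) (ha v)
    simp only [← mul_smul] at this
    rw [mul_inv_cancel_left] at this
    rw [← mul_smul, this, smul_smul', mul_smul]
  obtain ⟨u, hu, hux, huy⟩ := exists_U (F := F) hm hxy
  have h3 := h2 u
  simp only [transv_smul, hux, huy, mul_zero, zero_smul, add_zero] at h3
  have ha1 : (1 - a) • u = 0 := by rw [sub_smul, one_smul, ← h3, sub_self]
  have h4 := sub_eq_zero.1 ((smul_eq_zero.1 ha1).resolve_right hu)
  have h5 := congrArg (fun v => f v x) (h2 y)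
  simp only [transv_smul, sympForm_add_left, sympForm_smul_left, ← h4, hxy, hyx, sympForm_self, one_smul] at h5
  have h6 : (1 : F) = 0 := by linear_combination -h5
  exact one_ne_zero h6

/-- numbers -/
theorem num {q m K C : ℕ} (hq : 3 ≤ q) (hm : 3 ≤ m) (h1 : K ^ 5 < C) (h2 : C * q ^ 2 ≤ (q ^ (2 * m)) ^ 2)
    (h3 : q ^ (2 * (m - 1)) - 1 ≤ K * (q - 1)) : False := by
  obtain ⟨k, rfl⟩ : ∃ k, m = k + 3 := ⟨m - 3, by omega⟩
  have h4 : q ^ (2 * k + 3) ≤ K := by
    by_contra hlt
    push Not at hlt
    obtain ⟨r, rfl⟩ : ∃ r, q = r + 1 := ⟨q - 1, by omega⟩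
    rw [Nat.add_sub_cancel, show 2 * (k + 3 - 1) = (2 * k + 3) + 1 by omega, pow_succ] at h3
    have h5 : K * r ≤ ((r + 1) ^ (2 * k + 3) - 1) * r := Nat.mul_le_mul_right _ (by omega)
    set P := (r + 1) ^ (2 * k + 3) with hP
    have hP1 : 2 ≤ P := by
      rw [hP]
      calc 2 ≤ (r + 1) ^ 1 := by rw [pow_one]; omega
        _ ≤ _ := Nat.pow_le_pow_right (by omega) (by omega)
    obtain ⟨P', hP'⟩ : ∃ P', P = P' + 2 := ⟨P - 2, by omega⟩
    rw [hP'] at h3 h5
    have e1 : (P' + 2) * (r + 1) - 1 = P' * r + 2 * r + P' + 1 := by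
      have : (P' + 2) * (r + 1) = P' * r + 2 * r + P' + 1 + 1 := by ring
      omega
    have e2 : (P' + 2 - 1) * r = P' * r + r := by
      have : P' + 2 - 1 = P' + 1 := by omega
      rw [this]; ring
    rw [e1] at h3
    rw [e2] at h5
    omega
  have h5 : (q ^ (2 * k + 3)) ^ 5 * q ^ 2 < (q ^ (2 * (k + 3))) ^ 2 :=
    lt_of_lt_of_le (Nat.mul_lt_mul_of_pos_right (lt_of_le_of_lt (Nat.pow_le_pow_left h4 5) h1)
      (Nat.pow_pos (by omega))) h2
  rw [← pow_mul, ← pow_mul, ← pow_add] at h5
  have h6 := (Nat.pow_lt_pow_iff_right (by omega : 1 < q)).1 h5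
  omega

/-- **The step.** -/
theorem step [IsSimpleGroup (PSp m F)] (h : IF A Γ) (hm : 3 ≤ m) (ho : Odd (Fintype.card F)) {x y : V}
    (hxy : f x y = 1) (hz : pi m F (zz x y) ∈ A) {u : V} (hu : u ∈ UU x y) (c : F) : pi m F (transv u c) ∈ A := by
  classical
  have h2 := two_ne ho
  set K := (A.comap (pi m F)).comap (th hxy) with hK
  suffices hT : Tv K (⟨u, hu⟩ : UU x y) by
    have h1 := hT c
    rw [hK, mem_comap, mem_comap, th_t] at h1
    exact h1
  have hq3 : 3 ≤ Nat.card F := by
    rw [Nat.card_eq_fintype_card]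
    have h3 : 1 < Fintype.card F := Fintype.one_lt_card
    rcases ho with ⟨k, hk⟩
    omega
  have hE := Cfsg.Agent.H847.IF.lift_E2 h (noncomm hm) (pi m F) pi_surj hz (pi_zz_ne hm h2 hxy)
    (by rw [zz_sq hxy, map_one]) (B := (th hxy).range) (by
      rintro _ ⟨g, rfl⟩
      rw [th_comm])
  rw [← index_comap, ← hK] at hE
  have hC := cent_index_le (F := F) hxy
  have hV : Nat.card V = Nat.card F ^ (2 * m) := by
    rw [Nat.card_fun, Nat.card_sum, Nat.card_fin, two_mul]
  have hU : Nat.card (UU x y) = Nat.card F ^ (2 * (m - 1)) := by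
    have h3 := card_UU (F := F) hxy
    rw [hV, show 2 * m = 2 * (m - 1) + 2 by omega, pow_add] at h3
    exact (Nat.eq_of_mul_eq_mul_right (Nat.pow_pos (by omega)) h3).symm
  rw [hV] at hC
  by_cases hex : m - 1 = 2 ∧ Nat.card F = 3
  · obtain ⟨hm3, hF3⟩ := hex
    have hm3 : m = 3 := by omega
    refine Tv_of_small hxy hm h2 ?_ ?_ _
    · intro a b ha
      have hc : (3 : F) = 0 := by
        have h3 : ((Fintype.card F : ℕ) : F) = 0 := FiniteField.cast_card_eq_zero F
        rw [← Nat.card_eq_fintype_card, hF3] at h3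
        exact_mod_cast h3
      -- F = {0, a, 2a}
      have hcard : Fintype.card F = 3 := by rw [← Nat.card_eq_fintype_card, hF3]
      have hS : ({0, a, 2 * a} : Finset F) = Finset.univ := by
        apply Finset.eq_univ_of_card
        rw [hcard]
        have h01 : (0 : F) ≠ a := Ne.symm ha
        have h02 : (0 : F) ≠ 2 * a := (mul_ne_zero h2 ha).symm
        have h12 : a ≠ 2 * a := by
          intro h3
          apply ha
          linear_combination -h3
        rw [Finset.card_insert_of_notMem, Finset.card_insert_of_notMem, Finset.card_singleton]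
        · rw [Finset.mem_singleton]; exact h12
        · rw [Finset.mem_insert, Finset.mem_singleton]
          push Not
          exact ⟨h01, h02⟩
      have hb : b ∈ ({0, a, 2 * a} : Finset F) := by rw [hS]; exact Finset.mem_univ b
      rw [Finset.mem_insert, Finset.mem_insert, Finset.mem_singleton] at hb
      rcases hb with rfl | rfl | rfl
      · exact ⟨0, by simp⟩
      · exact ⟨1, by simp⟩
      · exact ⟨2, by push_cast; ring⟩
    · rw [hF3]
      rw [hF3] at hC
      subst hm3
      by_contra hlt
      push Not at hlt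
      have h4 : (3 ^ 2) ^ 5 ≤ K.index ^ 5 := Nat.pow_le_pow_left hlt 5
      norm_num at h4 hC
      omega
  · by_contra hcon
    have h3 := min_index (symp_BU hxy) ⟨_, hcon⟩ (m := m - 1) (by omega) hU hq3 hex
    rw [hU] at h3
    exact num hq3 hm hE hC h3

/-- **`Â` contains no fundamental involution.** -/
theorem fund [IsSimpleGroup (PSp m F)] (h : IF A Γ) (hm : 3 ≤ m) (ho : Odd (Fintype.card F)) {x y : V}
    (hxy : f x y = 1) (hz : pi m F (zz x y) ∈ A) : False := by
  apply h.ne_top
  have hall : ∀ (v : V) (c : F), transv v c ∈ A.comap (pi m F) := by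
    intro v c
    rw [mem_comap]
    obtain ⟨x', hx', y', hy', h1, h2, h3⟩ := exists_plane hm hxy (sub_pl_mem hxy v)
    have hz' : pi m F (zz x' y') ∈ A := by
      have k1 := step h hm ho hxy hz hx' 1
      have k2 := step h hm ho hxy hz hy' 1
      have k3 := A.mul_mem (A.mul_mem k1 k2) k1
      rw [← map_mul, ← map_mul] at k3
      rw [zz, map_mul]
      exact A.mul_mem k3 k3
    refine step h hm ho h1 hz' ?_ c
    have e1 : v = (v - pl x y v) + pl x y v := by abel
    rw [mem_UU]
    constructor
    · rw [e1, sympForm_add_left, form_pl_left hx', add_zero, sympForm_swap, h2, neg_zero]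
    · rw [e1, sympForm_add_left, form_pl_left hy', add_zero, sympForm_swap, h3, neg_zero]
  have htop : A.comap (pi m F) = ⊤ := by
    rw [eq_top_iff, ← T_univ, T_le]
    intro v _ c
    exact hall v c
  rw [eq_top_iff]
  intro a _
  obtain ⟨g, rfl⟩ := pi_surj (m := m) (F := F) a
  have : g ∈ A.comap (pi m F) := by rw [htop]; exact mem_top _
  exact this

/-- `fund` for an element given by its eigenspaces: `-e` on the hyperbolic plane `⟨x, y⟩`, `e` on its perpendicular space -/
theorem fund_eig [IsSimpleGroup (PSp m F)] (h : IF A Γ) (hm : 3 ≤ m) (ho : Odd (Fintype.card F)) {x y : V}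
    (hxy : f x y = 1) {g : G} {e : F} (he : e * e = 1) (hx : g • x = -(e • x)) (hy : g • y = -(e • y))
    (hu : ∀ u : V, f u x = 0 → f u y = 0 → g • u = e • u) (hg : pi m F g ∈ A) : False := by
  refine fund h hm ho hxy ?_
  have h1 : pi m F (zz x y) = pi m F g := by
    refine Cfsg.Agent.ClassicalGeometry.SympAutCentral.mk_eq_mk_iff.2 ⟨e, he, fun v => ?_⟩
    have h2 := sub_pl_mem hxy v
    have h3 : g • v = g • (v - pl x y v) + g • (pl x y v) := by
      rw [← Cfsg.Agent.ClassicalGeometry.SympSiegel.smul_add', sub_add_cancel]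
    have h4 : g • (pl x y v) = f v y • (g • x) - f v x • (g • y) := by
      rw [pl_apply, sub_eq_add_neg, Cfsg.Agent.ClassicalGeometry.SympSiegel.smul_add', ← neg_smul, Cfsg.Agent.ClassicalGeometry.SympSiegel.smul_smul', Cfsg.Agent.ClassicalGeometry.SympSiegel.smul_smul',
        neg_smul, ← sub_eq_add_neg]
    rw [h3, h4, hu _ h2.1 h2.2, hx, hy, zz_smul hxy, pl_apply]
    module
  rw [h1]
  exact hg

end main

end Cfsg.Agent.H511.IF
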